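import Cfsg.Agent.Lib.EPD.B
import Cfsg.Agent.Lib.EPD.L27
import Cfsg.Agent.Lib.J3T.Cnt
import Cfsg.Agent.S2220

/-!
# Simple groups with all elements of prime power order and dihedral Sylow 2-subgroups
-/

set_option autoImplicit false
set_option linter.unusedSectionVars false

open Cfsg
open scoped Classical

namespace Cfsg.Agent.EPD

open Finset EPO Nine
open Subgroup (zpowers mem_zpowers)

universe u

theorem three_pow_add {b k : ℕ} (h : 3 ^ b + 1 = 2 ^ k) : k ≤ 2 := by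
  by_contra hk
  obtain ⟨c, rfl⟩ := Nat.exists_eq_add_of_le (show 3 ≤ k by omega)
  have h1 : 3 ^ b % 8 = 1 ∨ 3 ^ b % 8 = 3 := by
    clear h
    induction b with
    | zero => simp
    | succ b ih => rw [pow_succ]; omega
  rw [pow_add] at h
  omega

theorem three_pow_sub {b k : ℕ} (h : 3 ^ b = 2 ^ k + 1) (hk : 2 ≤ k) : k = 3 := by
  obtain ⟨c, rfl⟩ : Even b := by
    by_contra hb
    obtain ⟨c, rfl⟩ := Nat.not_even_iff_odd.1 hb
    obtain ⟨d, rfl⟩ := Nat.exists_eq_add_of_le hk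
    have h1 : 9 ^ c % 4 = 1 := by simp [Nat.pow_mod]
    rw [pow_succ, pow_mul, pow_add] at h
    norm_num at h
    omega
  obtain ⟨y, hy⟩ : ∃ y, 3 ^ c = y + 1 := Nat.exists_eq_add_of_le' (Nat.one_le_pow _ _ (by norm_num))
  rw [pow_add, hy] at h
  have h1 : (y + 2) * y = 2 ^ k := by linarith
  obtain ⟨i, -, hi⟩ := (Nat.dvd_prime_pow Nat.prime_two).1 (Dvd.intro _ h1)
  have h2 := three_pow_add (b := c) (k := i) (by omega)
  have h3 : 4 ≤ 2 ^ k := by
    calc 4 = 2 ^ 2 := by norm_num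
      _ ≤ _ := Nat.pow_le_pow_right (by norm_num) hk
  have h4 : y = 2 := by
    interval_cases i
    · omega
    · obtain rfl : y = 0 := by omega
      omega
    · omega
  rw [h4, show (2 + 2) * 2 = 2 ^ 3 by norm_num] at h1
  exact (Nat.pow_right_injective le_rfl h1).symm

theorem solve_ab {m q n α β : ℕ} (hm : 4 ≤ m)
    (h : (q = 2 * m + 1 ∧ n = m + 1) ∨ (q + 1 = 2 * m ∧ n + 1 = m))
    (e : 2 * m * (q * n) + q * n = 1 + q * n * m + 2 * m * n * α + 2 * m * q * β) :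
    α = 2 ∧ 2 * β + 1 = n := by
  have e1 : (2 * n * (α - 2) : ℤ) = q * (n - 1 - 2 * β) := by
    have hm0 : (m : ℤ) ≠ 0 := by omega
    refine mul_left_cancel₀ hm0 ?_
    zify at e
    rcases h with ⟨rfl, rfl⟩ | ⟨h1, rfl⟩
    · push_cast at e ⊢; linear_combination -e
    · obtain rfl : q = 2 * n + 1 := by omega
      push_cast at e ⊢; linear_combination -e
  have e2 : (q : ℤ) ∣ α - 2 := by
    refine IsCoprime.dvd_of_dvd_mul_left (y := (2 * n : ℤ)) ?_ ⟨_, e1⟩
    rcases h with ⟨rfl, rfl⟩ | ⟨h1, rfl⟩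
    · exact ⟨-1, 1, by push_cast; ring⟩
    · obtain rfl : q = 2 * n + 1 := by omega
      exact ⟨1, -1, by push_cast; ring⟩
  obtain ⟨t, ht⟩ := e2
  have hq : (7 : ℤ) ≤ q := by omega
  have hn : (3 : ℤ) ≤ n := by omega
  rw [ht, mul_left_comm] at e1
  have e3 := mul_left_cancel₀ (by omega) e1
  have t1 : t ≤ 0 := by
    by_contra h1
    nlinarith
  have t2 : 0 ≤ t := by
    by_contra h1
    nlinarith
  obtain rfl : t = 0 := le_antisymm t1 t2
  omega

variable {G : Type u} [Group G] [Fintype G]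

/-- non-trivial elements whose centraliser order divides `d` -/
noncomputable def EE (G : Type u) [Group G] [Fintype G] (d : ℕ) : Finset G :=
  univ.filter fun x => x ≠ 1 ∧ Nat.card (Cz x) ∣ d

theorem mem_EE {d : ℕ} {x : G} : x ∈ EE G d ↔ x ≠ 1 ∧ Nat.card (Cz x) ∣ d := by simp [EE]

theorem conj_mem_EE {d : ℕ} {x : G} (hx : x ∈ EE G d) (g : G) : g * x * g⁻¹ ∈ EE G d := by
  obtain ⟨h1, h2⟩ := mem_EE.1 hx
  exact mem_EE.2 ⟨fun e => h1 (by simpa using e), by rwa [J3T.card_Cz_conj]⟩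

theorem EE_disjoint {d e : ℕ} (h : d.Coprime e) : Disjoint (EE G d) (EE G e) :=
  disjoint_left.2 fun x h1 h2 => by
    have := Nat.eq_one_of_dvd_coprimes h (mem_EE.1 h1).2 (mem_EE.1 h2).2
    exact (mem_EE.1 h1).1 ((Subgroup.eq_bot_iff_forall _).1 (Subgroup.eq_bot_of_card_eq _ this) x
      (mem_Cz.2 rfl))

theorem dvd_EE {d k : ℕ} (hG : Nat.card G = k * d) : k ∣ (EE G d).card := by
  refine J3T.dvd_card_of_orbits ⊤ _ k (fun s hs g _ => conj_mem_EE hs g) fun s hs => ?_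
  obtain ⟨c, hc⟩ := (mem_EE.1 hs).2
  have := J3T.class_card s
  rw [hG, hc, mul_comm _ c, ← mul_assoc] at this
  exact ⟨c, Nat.eq_of_mul_eq_mul_right Nat.card_pos this⟩

theorem primePow_Cz (hE : EP G) {x : G} (hx : x ≠ 1) : IsPrimePow (Nat.card (Cz x)) := by
  obtain ⟨p, k, hp, hk⟩ := hE.exists_prime x
  have := Fact.mk hp
  obtain ⟨n, hn⟩ := (isPGroup_of_pow (U := Cz x) fun y hy =>
    hE.comm hp (mem_Cz.1 hy).symm hx hk).exists_card_eq
  refine (isPrimePow_nat_iff _).2 ⟨p, n, hp, Nat.pos_of_ne_zero fun e => hx ?_, hn.symm⟩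
  rw [e, pow_zero] at hn
  exact (Subgroup.eq_bot_iff_forall _).1 (Subgroup.eq_bot_of_card_eq _ hn) x (mem_Cz.2 rfl)

namespace DH
variable {T : Subgroup G} {a z : G} {j : ℕ} (h : DH T a z j)
include h

theorem cnt_le (x : G) : cnt z x ≤ Nat.card (Cz x) := by
  have key : ∀ s ∈ (cl z).filter fun s => s⁻¹ * x ∈ cl z, s⁻¹ * x * s = x⁻¹ := fun s hs => by
    obtain ⟨h1, h2⟩ := mem_filter.1 hs
    have hi : s⁻¹ = s := inv_eq_of_mul_eq_one_right (h.mem_cl'.1 h1).1
    have := (h.mem_cl'.1 h2).1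
    rw [hi] at this ⊢
    exact eq_inv_of_mul_eq_one_left (by rw [← this]; group)
  rcases ((cl z).filter fun s => s⁻¹ * x ∈ cl z).eq_empty_or_nonempty with e | ⟨s0, hs0⟩
  · rw [cnt, e]; exact Nat.zero_le _
  rw [← J3T.card_fs, cnt]
  refine card_le_card_of_injOn (fun s => s * s0⁻¹) (fun s hs => J3T.mem_fs.2 (mem_Cz.2 ?_))
    fun s _ t _ e => mul_right_cancel e
  have e1 := key s hs
  have e2 := key s0 hs0
  calc s * s0⁻¹ * x = s * (s0⁻¹ * x * s0) * s0⁻¹ := by group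
    _ = s * (s⁻¹ * x * s) * s0⁻¹ := by rw [e1, e2]
    _ = _ := by group

theorem cnt_one : cnt z 1 = T.index := by
  rw [← h.card_cl', cnt, filter_true_of_mem]
  intro s hs
  rwa [mul_one, inv_eq_of_mul_eq_one_right (h.mem_cl'.1 hs).1]

theorem sum_cnt : ∑ x, cnt z x = T.index ^ 2 := by
  have := Ph_eq z 1
  rw [Ph_one, h.card_cl'] at this
  simp only [Pi.one_apply, mul_one] at this
  exact_mod_cast this.symm

theorem EE_two : EE G (2 ^ (j + 3)) = J3T.cls ⊤ ((J3T.fs (zpowers a)).erase 1) := by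
  ext x
  rw [J3T.mem_cls, mem_EE]
  constructor
  · rintro ⟨h1, h2⟩
    obtain ⟨g, hg⟩ := J3T.conj_into (A := T) Nat.prime_two
      (fun e => (Nat.not_even_iff_odd.2 h.odd) (even_iff_two_dvd.2 e)) (c := x) (k := j + 3)
      (orderOf_dvd_iff_pow_eq_one.1 ((orderOf_dvd_card_Cz x).trans h2))
    have h3 : g * x * g⁻¹ ≠ 1 := fun e => h1 (by simpa using e)
    by_cases hA : g * x * g⁻¹ ∈ zpowers a
    · exact ⟨_, mem_erase.2 ⟨h3, J3T.mem_fs.2 hA⟩, g⁻¹, trivial, by group⟩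
    · obtain ⟨k, hk⟩ := isConj_iff.1 (h.conj _ (h.out _ hg hA).1 h3)
      refine ⟨z, mem_erase.2 ⟨h.z1, J3T.mem_fs.2 h.zA⟩, g⁻¹ * k, trivial, ?_⟩
      rw [show g⁻¹ * k * z * (g⁻¹ * k)⁻¹ = g⁻¹ * (k * z * k⁻¹) * g by group, hk]; group
  · rintro ⟨y, hy, g, -, rfl⟩
    obtain ⟨h1, h2⟩ := mem_erase.1 hy
    refine ⟨fun e => h1 (by simpa using e), ?_⟩
    rw [J3T.card_Cz_conj, ← h.card]
    refine Subgroup.card_dvd_of_le fun c hc => h.ti y (J3T.mem_fs.1 h2) h1 c ?_
    rw [mem_Cz.1 hc, mul_inv_cancel_right]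
    exact J3T.mem_fs.1 h2

theorem card_EE_two : (EE G (2 ^ (j + 3))).card + T.index = T.index * 2 ^ (j + 2) := by
  have := J3T.ti_card ⊤ T le_top ((J3T.fs (zpowers a)).erase 1) fun y hy g _ => by
    obtain ⟨h1, h2⟩ := mem_erase.1 hy
    rw [J3T.mem_fs] at h2
    refine ⟨fun e => h.ti y h2 h1 g (J3T.mem_fs.1 (mem_erase.1 e).2), fun e =>
      mem_erase.2 ⟨fun e => h1 (by simpa using e), J3T.mem_fs.2 ?_⟩⟩
    by_cases hA : g ∈ zpowers a
    · exact mul_mem (mul_mem hA h2) (inv_mem hA)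
    · obtain ⟨s2, s3⟩ := h.out g e hA
      rw [inv_eq_of_mul_eq_one_right s2, s3 y h2]
      exact inv_mem h2
  rw [← h.EE_two, card_erase_of_mem (J3T.mem_fs.2 (one_mem _)), J3T.card_fs, h.cardA,
    Subgroup.card_top, h.card_G, h.card, mul_comm, mul_assoc] at this
  rw [Nat.eq_of_mul_eq_mul_left (by positivity) this, Nat.mul_sub_one, Nat.sub_add_cancel]
  exact Nat.le_mul_of_pos_right _ (by positivity)

theorem sum_cnt_two : ∑ x ∈ EE G (2 ^ (j + 3)), cnt z x = (EE G (2 ^ (j + 3))).card * 2 ^ (j + 2) := by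
  rw [← smul_eq_mul, ← sum_const]
  refine sum_congr rfl fun x hx => ?_
  rw [h.EE_two] at hx
  obtain ⟨y, hy, g, -, rfl⟩ := J3T.mem_cls.1 hx
  rw [cnt_conj, h.cnt_A (J3T.mem_fs.1 (mem_erase.1 hy).2) (mem_erase.1 hy).1]

theorem orders (hE : EP G) (h3 : 3 ∣ Nat.card G) :
    Nat.card G = 168 ∨ Nat.card G = 360 ∨ Nat.card G = 2448 := by
  obtain ⟨m, hm⟩ : ∃ m, m = 2 ^ (j + 2) := ⟨_, rfl⟩
  have hm4 : 4 ≤ m := by
    rw [hm, pow_add]
    have := Nat.one_le_two_pow (n := j)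
    omega
  have hm2 : 2 ^ (j + 3) = 2 * m := by rw [hm, pow_succ' 2 (j + 2)]
  obtain ⟨q, n, hqn, hi⟩ : ∃ q n : ℕ, ((q = 2 * m + 1 ∧ n = m + 1) ∨ (q + 1 = 2 * m ∧ n + 1 = m)) ∧
      T.index = q * n := by
    have hm' : (2 : ℤ) ^ (j + 2) = m := by rw [hm]; push_cast; rfl
    rcases h.index_eq with e | e <;> rw [hm'] at e
    · exact ⟨_, _, Or.inl ⟨rfl, rfl⟩, by exact_mod_cast e⟩
    · refine ⟨2 * m - 1, m - 1, Or.inr ⟨by omega, by omega⟩, ?_⟩
      zify [show 1 ≤ 2 * m by omega, show 1 ≤ m by omega]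
      exact e
  have hG : Nat.card G = 2 * m * (q * n) := by rw [h.card_G, hm2, hi]
  have hodd : Odd (q * n) := hi ▸ h.odd
  have c1 : (2 * m).Coprime (q * n) := by
    rw [← hm2]
    exact Nat.Coprime.pow_left _ (Nat.coprime_two_left.2 hodd)
  have c2 : q.Coprime n := by
    rcases hqn with ⟨rfl, rfl⟩ | ⟨h1, h2⟩
    · exact Nat.isCoprime_iff_coprime.1 ⟨-1, 2, by push_cast; ring⟩
    · obtain rfl : q = 2 * n + 1 := by omega
      exact Nat.isCoprime_iff_coprime.1 ⟨1, -2, by push_cast; ring⟩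
  have hsplit : ∀ F : G → ℕ, ∑ x, F x =
      F 1 + (∑ x ∈ EE G (2 * m), F x + (∑ x ∈ EE G q, F x + ∑ x ∈ EE G n, F x)) := by
    intro F
    rw [← add_sum_erase _ _ (mem_univ 1), ← sum_union (EE_disjoint c2), ← sum_union
      (disjoint_union_right.2 ⟨EE_disjoint (Nat.Coprime.coprime_mul_right_right c1),
        EE_disjoint (Nat.Coprime.coprime_mul_left_right c1)⟩)]
    congr 2
    ext x
    simp only [mem_erase, mem_univ, and_true, mem_union, mem_EE, ← and_or_left]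
    refine ⟨fun hx => ⟨hx, ?_⟩, fun e => e.1⟩
    have h1 := primePow_Cz hE hx
    rw [← Nat.Coprime.isPrimePow_dvd_mul c2 h1, ← Nat.Coprime.isPrimePow_dvd_mul c1 h1, ← hG]
    exact Subgroup.card_subgroup_dvd_card _
  obtain ⟨α, hα⟩ := dvd_EE (G := G) (d := q) (k := 2 * m * n) (by rw [hG]; ring)
  obtain ⟨β, hβ⟩ := dvd_EE (G := G) (d := n) (k := 2 * m * q) (by rw [hG]; ring)
  have h2 := h.card_EE_two
  have h4 := h.sum_cnt_two
  rw [hm2, ← hm] at h2 h4
  rw [hi] at h2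
  have h5 := hsplit fun _ => 1
  simp only [sum_const, smul_eq_mul, mul_one, card_univ] at h5
  rw [← Nat.card_eq_fintype_card, hG, hα, hβ] at h5
  obtain ⟨rfl, hβ'⟩ := solve_ab (α := α) (β := β) hm4 hqn (by omega)
  have hn0 : 0 < n := by omega
  have hq : IsPrimePow q := by
    obtain ⟨x, hx⟩ := card_pos.1 (show 0 < (EE G q).card by rw [hα]; positivity)
    obtain ⟨x1, c, hc⟩ := mem_EE.1 hx
    have e1 := J3T.class_card x
    have e2 : (J3T.cls ⊤ {x}).card ≤ (EE G q).card := card_le_card fun y hy => by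
      obtain ⟨g, -, rfl⟩ := J3T.mem_cls1.1 hy
      exact conj_mem_EE hx g
    have e3 : (J3T.cls ⊤ {x}).card = 2 * m * n * c := by
      refine Nat.eq_of_mul_eq_mul_right (Nat.card_pos (α := Cz x)) ?_
      rw [e1, hG, hc]; ring
    rw [e3, hα] at e2
    have e4 := Nat.le_of_mul_le_mul_left e2 (by positivity)
    have e5 : Odd c := (hodd.of_dvd_nat (Dvd.intro _ rfl)).of_dvd_nat (Dvd.intro_left _ hc.symm)
    obtain rfl : c = 1 := by
      obtain ⟨d, hd⟩ := e5
      omega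
    rw [hc, mul_one]
    exact primePow_Cz hE x1
  have hn : IsPrimePow n := by
    by_contra hn
    have e1 := hsplit (cnt z)
    rw [h.sum_cnt, h.cnt_one, hi, h4] at e1
    have e2 : ∑ x ∈ EE G q, cnt z x ≤ (EE G q).card * q := by
      rw [← smul_eq_mul]
      exact sum_le_card_nsmul _ _ _ fun x hx => (h.cnt_le x).trans
        (Nat.le_of_dvd (by omega) (mem_EE.1 hx).2)
    have e3 : (∑ x ∈ EE G n, cnt z x) * 3 ≤ (EE G n).card * n := by
      rw [← smul_eq_mul (EE G n).card, sum_mul]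
      refine sum_le_card_nsmul _ _ _ fun x hx => ?_
      obtain ⟨x1, c, hc⟩ := mem_EE.1 hx
      have e5 : Odd c := (hodd.of_dvd_nat (Dvd.intro_left _ rfl)).of_dvd_nat (Dvd.intro_left _ hc.symm)
      have e6 : c ≠ 1 := fun e => hn (by rw [hc, e, mul_one]; exact primePow_Cz hE x1)
      obtain ⟨d, hd⟩ := e5
      rw [hc]
      exact Nat.mul_le_mul (h.cnt_le x) (by omega)
    rw [hα] at e2
    rw [hβ] at e3
    have e4 : q * n * (3 * (q * n) + 3 * m + m) ≤ q * n * (3 + 3 * m * m + 12 * m + m * n) := by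
      have : (EE G (2 * m)).card * m + q * n * m = q * n * m * m := by rw [← add_mul, h2]
      have e7 : 2 * m * q * β * n + q * n * m = q * n * (m * n) := by
        nth_rewrite 4 [← hβ']; ring
      nlinarith
    have e5 := Nat.le_of_mul_le_mul_left e4 (Nat.pos_of_ne_zero fun e => by
      rw [e] at hodd; exact absurd hodd (by decide))
    rcases hqn with ⟨rfl, rfl⟩ | ⟨h1, h6⟩
    · nlinarith
    · obtain rfl : q = 2 * n + 1 := by omega
      subst h6
      have e6 : n ≤ 7 := by nlinarith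
      have e7 : j ≤ 1 := by
        by_contra hj
        have : 2 ^ 4 ≤ 2 ^ (j + 2) := Nat.pow_le_pow_right (by norm_num) (by omega)
        omega
      interval_cases j
      · obtain rfl : n = 3 := by omega
        exact hn Nat.prime_three.isPrimePow
      · obtain rfl : n = 7 := by omega
        exact hn (by norm_num : Nat.Prime 7).isPrimePow
  have key : ∀ d, IsPrimePow d → 3 ∣ d → ∃ b, d = 3 ^ b := fun d hd e => by
    obtain ⟨p, k, hp, -, rfl⟩ := (isPrimePow_nat_iff _).1 hd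
    exact ⟨k, by rw [(Nat.prime_dvd_prime_iff_eq Nat.prime_three hp).1 (Nat.prime_three.dvd_of_dvd_pow e)]⟩
  rw [hG, ← hm2] at h3
  rw [hG]
  rcases (Nat.Prime.dvd_mul Nat.prime_three).1 h3 with e | e
  · exact absurd (Nat.prime_three.dvd_of_dvd_pow e) (by norm_num)
  rcases (Nat.Prime.dvd_mul Nat.prime_three).1 e with e | e
  · obtain ⟨b, hb⟩ := key q hq e
    rcases hqn with ⟨h1, h6⟩ | ⟨h1, h6⟩
    · have := three_pow_sub (b := b) (k := j + 3) (by omega) (by omega)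
      obtain rfl : j = 0 := by omega
      subst hm h6
      rw [h1]; norm_num
    · have := three_pow_add (b := b) (k := j + 3) (by omega)
      omega
  · obtain ⟨b, hb⟩ := key n hn e
    rcases hqn with ⟨h1, h6⟩ | ⟨h1, h6⟩
    · have := three_pow_sub (b := b) (k := j + 2) (by omega) (by omega)
      obtain rfl : j = 1 := by omega
      subst hm h1
      rw [h6]; norm_num
    · have := three_pow_add (b := b) (k := j + 2) (by omega)
      obtain rfl : j = 0 := by omega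
      obtain rfl : q = 7 := by omega
      obtain rfl : n = 3 := by omega
      rw [hm]; norm_num

end DH

omit [Fintype G] in
theorem dih [Finite G] [IsSimpleGroup G] (hG : ¬ IsMulCommutative G) (h : EPO.EP G) (T : Sylow 2 G)
    {v : G} (hv : v ∈ (T : Subgroup G)) (hv2 : orderOf v = 2)
    (hc : Nat.card ↥(Subgroup.centralizer ({v} : Set G) ⊓ (T : Subgroup G)) = 4)
    (h8 : 8 ≤ Nat.card (T : Subgroup G)) (h3 : 3 ∣ Nat.card G) :
    Nonempty (G ≃* alternatingGroup (Fin 6)) ∨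
    (∃ (F : Type) (_ : Field F) (_ : Fintype F), Fintype.card F ∈ ({4, 7, 8, 17} : Finset ℕ) ∧
      Nonempty (G ≃* Matrix.ProjectiveSpecialLinearGroup (Fin 2) F)) := by
  have := Fintype.ofFinite G
  obtain ⟨a, z, j, hD⟩ := exists_DH hG h T hv hv2 hc h8
  have : Fact (Nat.Prime 17) := ⟨by norm_num⟩
  rcases hD.orders h h3 with e | e | e
  · exact Or.inr ⟨ZMod 7, inferInstance, inferInstance, by rw [ZMod.card]; decide, recL27 h e⟩
  · have : Fact (Nat.Prime 3) := ⟨Nat.prime_three⟩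
    obtain ⟨R⟩ : Nonempty (Sylow 3 G) := inferInstance
    have h9 : Nat.card R = 3 ^ 2 := (sylow_card (m := 40) (b := 2) e (by norm_num) R).1
    rcases S2220.result hG 5 3 1 (by norm_num) (by norm_num) (by norm_num) e R (fun k hk k1 => by
      obtain ⟨i, hi⟩ := pow_of_mem R.isPGroup' hk
      refine R.is_maximal' (isPGroup_of_pow fun y hy =>
        h.comm Nat.prime_three (mem_Cz.1 hy).symm k1 hi) fun y hy => mem_Cz.2 ?_
      exact congrArg Subtype.val ((IsPGroup.isMulCommutative_of_card_eq_prime_sq h9).1.1 ⟨y, hy⟩ ⟨k, hk⟩))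
      with e1 | ⟨F, _, _, e1, e2⟩ | e1
    · exact Or.inl e1
    · exact Or.inr ⟨F, inferInstance, inferInstance, by rw [e1]; decide, e2⟩
    · exact Or.inr ⟨ZMod 17, inferInstance, inferInstance, by rw [ZMod.card]; decide, e1⟩
  · exact Or.inr ⟨ZMod 17, inferInstance, inferInstance, by rw [ZMod.card]; decide, Rec.recL217 e⟩

end Cfsg.Agent.EPD
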