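import Cfsg.Agent.Lib.EPO.A
import Cfsg.Agent.Lib.KCP.Pure

/-!
# Sylow 2-subgroups of maximal class in simple groups with all elements of prime power order
-/

set_option autoImplicit false
set_option linter.unusedSectionVars false

namespace Cfsg.Agent.EPD

open Subgroup
open scoped commutatorElement

universe u

variable {G : Type u} [Group G]

/-- dihedral Sylow 2-subgroup, one class of involutions, self-centralising -/
structure DH (T : Subgroup G) (a z : G) (j : ℕ) : Prop where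
  ord : orderOf a = 2 ^ (j + 2)
  hz : z = a ^ 2 ^ (j + 1)
  aT : a ∈ T
  card : Nat.card T = 2 ^ (j + 3)
  odd : Odd T.index
  out : ∀ t ∈ T, t ∉ zpowers a → t * t = 1 ∧ ∀ y ∈ zpowers a, t * y * t = y⁻¹
  cz : ∀ g, g * z = z * g ↔ g ∈ T
  ti : ∀ x ∈ zpowers a, x ≠ 1 → ∀ g, g * x * g⁻¹ ∈ zpowers a → g ∈ T
  conj : ∀ s, s * s = 1 → s ≠ 1 → IsConj z s

section Cyc
variable {a z : G} {j : ℕ} (ho : orderOf a = 2 ^ (j + 2)) (hz : z = a ^ 2 ^ (j + 1))
include ho hz

theorem z_sq : z * z = 1 := by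
  rw [hz, ← pow_add, ← mul_two, ← pow_succ, ← ho, pow_orderOf_eq_one]

theorem z_ne : z ≠ 1 := by
  rw [hz]
  refine pow_ne_one_of_lt_orderOf (by positivity) ?_
  rw [ho]
  exact Nat.pow_lt_pow_right (by norm_num) (by omega)

theorem invA {x : G} (hx : x ∈ zpowers a) (h2 : x * x = 1) : x = 1 ∨ x = z := by
  obtain ⟨n, rfl⟩ := hx
  simp only at h2 ⊢
  rw [← zpow_add, ← orderOf_dvd_iff_zpow_eq_one, ho, ← two_mul, pow_succ'] at h2
  push_cast at h2
  obtain ⟨c, rfl⟩ := Int.dvd_of_mul_dvd_mul_left two_ne_zero h2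
  have e : a ^ ((2 : ℤ) ^ (j + 1) * c) = z ^ c := by
    rw [hz, zpow_mul, ← zpow_natCast]; push_cast; rfl
  have h3 : z ^ (2 : ℤ) = 1 := by rw [zpow_two, z_sq ho hz]
  rw [e]
  rcases Int.even_or_odd' c with ⟨d, rfl | rfl⟩
  · left; rw [zpow_mul, h3, one_zpow]
  · right; rw [zpow_add, zpow_mul, h3, one_zpow, one_mul, zpow_one]

omit ho in
theorem z_mem2 : z ∈ zpowers (a ^ 2) := by
  rw [hz, pow_succ' 2 j, pow_mul]
  exact pow_mem (mem_zpowers _) _

omit hz in
theorem a_not_mem2 : a ∉ zpowers (a ^ 2) := by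
  rintro ⟨n, hn⟩
  simp only at hn
  rw [← zpow_natCast, ← zpow_mul, ← mul_inv_eq_one, ← zpow_sub_one, ← orderOf_dvd_iff_zpow_eq_one,
    ho, pow_succ'] at hn
  push_cast at hn
  have := Dvd.dvd.trans (Dvd.intro _ rfl) hn
  omega

theorem exists_pow_eq_z {x : G} (hx : x ∈ zpowers a) (h1 : x ≠ 1) : ∃ i : ℕ, x ^ i = z := by
  have h2 : x ^ 2 ^ (j + 2) = 1 := by
    rw [← ho, ← orderOf_dvd_iff_pow_eq_one]
    exact orderOf_dvd_of_mem_zpowers hx
  obtain ⟨i, -, hi⟩ := (Nat.dvd_prime_pow Nat.prime_two).1 (orderOf_dvd_of_pow_eq_one h2)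
  obtain ⟨i, rfl⟩ : ∃ i', i = i' + 1 := Nat.exists_eq_succ_of_ne_zero fun e => h1 (by
    rw [e, pow_zero] at hi; exact orderOf_eq_one_iff.1 hi)
  refine ⟨2 ^ i, (invA ho hz (pow_mem hx _) ?_).resolve_left ?_⟩
  · rw [← pow_add, ← mul_two, ← pow_succ, ← hi, pow_orderOf_eq_one]
  · refine pow_ne_one_of_lt_orderOf (by positivity) ?_
    rw [hi]
    exact Nat.pow_lt_pow_right (by norm_num) (by omega)

end Cyc

theorem le_A (a : G) : zpowers (a ^ 2) ≤ zpowers a := zpowers_le.2 (pow_mem (mem_zpowers a) 2)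

theorem mul_mem2 {a x y : G} (hx : x ∈ zpowers a) (hy : y ∈ zpowers a) (hx' : x ∉ zpowers (a ^ 2))
    (hy' : y ∉ zpowers (a ^ 2)) : x * y ∈ zpowers (a ^ 2) := by
  have key : ∀ n : ℤ, a ^ (2 * n) ∈ zpowers (a ^ 2) := fun n => ⟨n, by
    simp only; rw [zpow_mul, zpow_two, pow_two]⟩
  obtain ⟨m, rfl⟩ := hx
  obtain ⟨n, rfl⟩ := hy
  simp only at hx' hy' ⊢
  rcases Int.even_or_odd' m with ⟨c, rfl | rfl⟩
  · exact absurd (key c) hx'
  rcases Int.even_or_odd' n with ⟨d, rfl | rfl⟩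
  · exact absurd (key d) hy'
  rw [← zpow_add, show 2 * c + 1 + (2 * d + 1) = 2 * (c + d + 1) by ring]
  exact key _

/-- the subgroup `⟨a², w⟩` -/
def KK (a w : G) (hw : w * w = 1) (h : ∀ y ∈ zpowers (a ^ 2), w * y * w ∈ zpowers (a ^ 2)) :
    Subgroup G where
  carrier := {x | x ∈ zpowers (a ^ 2) ∨ x * w ∈ zpowers (a ^ 2)}
  one_mem' := Or.inl (one_mem _)
  mul_mem' := by
    rintro x y (hx | hx) (hy | hy)
    · exact Or.inl (mul_mem hx hy)
    · exact Or.inr (by rw [mul_assoc]; exact mul_mem hx hy)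
    · refine Or.inr ?_
      have := mul_mem hx (h y hy)
      rwa [show x * w * (w * y * w) = x * (w * w) * y * w by group, hw, mul_one] at this
    · refine Or.inl ?_
      have := mul_mem hx (h _ hy)
      rwa [show x * w * (w * (y * w) * w) = x * (w * w) * y * (w * w) by group, hw, mul_one,
        mul_one] at this
  inv_mem' := by
    rintro x (hx | hx)
    · exact Or.inl (inv_mem hx)
    · refine Or.inr ?_
      have := h _ (inv_mem hx)
      rwa [mul_inv_rev, mul_inv_cancel_left] at this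

section Main
variable [Finite G] (T : Sylow 2 G) (hperf : commutator G = ⊤) {a z : G} {j : ℕ}
  (ho : orderOf a = 2 ^ (j + 2)) (hz : z = a ^ 2 ^ (j + 1)) (aT : a ∈ (T : Subgroup G))
  (p2 : ∀ x ∈ (T : Subgroup G), ∀ y ∈ (T : Subgroup G), x ∉ zpowers a → y ∉ zpowers a →
    x * y ∈ zpowers a)
  (ti : ∀ x ∈ zpowers a, x ≠ 1 → ∀ g, g * x * g⁻¹ ∈ zpowers a → g ∈ (T : Subgroup G))

include p2 in
theorem sq_mem {x : G} (hx : x ∈ (T : Subgroup G)) : x * x ∈ zpowers a := by
  by_cases h : x ∈ zpowers a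
  exacts [mul_mem h h, p2 x hx x hx h h]

include aT p2 in
theorem conj_mem {t y : G} (ht : t ∈ (T : Subgroup G)) (hy : y ∈ zpowers a) :
    t * y * t⁻¹ ∈ zpowers a := by
  by_cases h : t ∈ zpowers a
  · exact mul_mem (mul_mem h hy) (inv_mem h)
  · exact p2 _ (mul_mem ht (zpowers_le.2 aT hy)) _ (inv_mem ht)
      (fun e => h ((mul_mem_cancel_right hy).1 e)) fun e => h (inv_mem_iff.1 e)

include aT p2 in
theorem conj_mem2 {t y : G} (ht : t ∈ (T : Subgroup G)) (hy : y ∈ zpowers (a ^ 2)) :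
    t * y * t⁻¹ ∈ zpowers (a ^ 2) := by
  obtain ⟨n, rfl⟩ := hy
  obtain ⟨m, hm⟩ := conj_mem T aT p2 ht (mem_zpowers a)
  simp only at hm ⊢
  rw [← conj_zpow, ← conj_pow, ← hm, ← zpow_natCast (a ^ m), ← zpow_mul a, mul_comm, zpow_mul,
    zpow_natCast]
  exact zpow_mem (zpow_mem (mem_zpowers _) _) _

include hperf p2 ti in
theorem focal {K : Subgroup G}
    (q2 : ∀ x ∈ (T : Subgroup G), ∀ y ∈ (T : Subgroup G), x ∉ K → y ∉ K → x * y ∈ K)
    (hK : ∀ s ∈ K, s * s = 1 → ∀ u : G, u * s * u⁻¹ ∈ (T : Subgroup G) → u * s * u⁻¹ ∈ K) :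
    (T : Subgroup G) ≤ K := by
  have h1 : (T : Subgroup G) ≤ (T : Subgroup G).focalSubgroup := by
    rw [← commutator_inf_eq_focalSubgroup, hperf]
    exact le_inf le_top le_rfl
  refine h1.trans ?_
  rw [focalSubgroup_def, closure_le]
  rintro _ ⟨hg, x, hx, u, rfl⟩
  have h2 : u * x⁻¹ * u⁻¹ ∈ (T : Subgroup G) := by
    have := mul_mem (inv_mem hx) hg
    simpa [commutatorElement_def, mul_assoc] using this
  have e : ⁅x, u⁆ = x * (u * x⁻¹ * u⁻¹) := by rw [commutatorElement_def]; group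
  rw [SetLike.mem_coe, e]
  have key : x ∈ K ↔ u * x⁻¹ * u⁻¹ ∈ K := by
    by_cases hxx : x * x = 1
    · have hi : x⁻¹ = x := inv_eq_of_mul_eq_one_right hxx
      rw [hi] at h2 ⊢
      refine ⟨fun h => hK x h hxx u h2, fun h => ?_⟩
      have := hK _ h (by
        rw [show u * x * u⁻¹ * (u * x * u⁻¹) = u * (x * x) * u⁻¹ by group, hxx]; simp) u⁻¹
        (by simpa [mul_assoc] using hx)
      simpa [mul_assoc] using this
    · have hu : u ∈ (T : Subgroup G) := by
        refine ti (x⁻¹ * x⁻¹) (sq_mem T p2 (inv_mem hx)) (fun e => hxx ?_) u ?_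
        · rw [← mul_inv_rev, inv_eq_one] at e; exact e
        · have := sq_mem T p2 h2
          rwa [show u * x⁻¹ * u⁻¹ * (u * x⁻¹ * u⁻¹) = u * (x⁻¹ * x⁻¹) * u⁻¹ by group] at this
      rw [← inv_mem_iff (x := x)]
      by_cases huK : u ∈ K
      · rw [mul_mem_cancel_right (inv_mem huK), mul_mem_cancel_left huK]
      · have hu' : u⁻¹ ∉ K := fun e => huK (inv_mem_iff.1 e)
        constructor
        · intro h
          exact q2 _ (mul_mem hu (inv_mem hx)) _ (inv_mem hu)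
            (fun e => huK ((mul_mem_cancel_right h).1 e)) hu'
        · intro h
          by_contra h'
          exact hu' ((mul_mem_cancel_left (q2 _ hu _ (inv_mem hx) huK h')).1 h)
  by_cases hxK : x ∈ K
  · exact mul_mem hxK (key.1 hxK)
  · exact q2 _ hx _ h2 hxK fun e => hxK (key.2 e)

include hperf ho aT p2 ti in
theorem focal_KK {w : G} (hwT : w ∈ (T : Subgroup G)) (hwA : w ∉ zpowers a) (hw : w * w = 1)
    (hK : ∀ s, (s ∈ zpowers (a ^ 2) ∨ s * w ∈ zpowers (a ^ 2)) → s * s = 1 → ∀ u : G,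
      u * s * u⁻¹ ∈ (T : Subgroup G) →
        (u * s * u⁻¹ ∈ zpowers (a ^ 2) ∨ u * s * u⁻¹ * w ∈ zpowers (a ^ 2))) : False := by
  have hi : w⁻¹ = w := inv_eq_of_mul_eq_one_right hw
  have h2 : ∀ y ∈ zpowers (a ^ 2), w * y * w ∈ zpowers (a ^ 2) := fun y hy => by
    have := conj_mem2 T aT p2 hwT hy
    rwa [hi] at this
  have h3 : ∀ y ∈ zpowers a, w * y * w ∈ zpowers a := fun y hy => by
    have := conj_mem T aT p2 hwT hy
    rwa [hi] at this
  have h4 : ∀ y, y ∉ zpowers (a ^ 2) → w * y * w ∉ zpowers (a ^ 2) := fun y hy e => hy (by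
    have := h2 _ e
    rwa [show w * (w * y * w) * w = (w * w) * y * (w * w) by group, hw, one_mul, mul_one] at this)
  have := focal T hperf p2 ti (K := KK a w hw h2) (fun x hx y hy hx' hy' => by
    obtain ⟨x1, x2⟩ := not_or.1 hx'
    obtain ⟨y1, y2⟩ := not_or.1 hy'
    by_cases xA : x ∈ zpowers a <;> by_cases yA : y ∈ zpowers a
    · exact Or.inl (mul_mem2 xA yA x1 y1)
    · exact Or.inr (by rw [mul_assoc]; exact mul_mem2 xA (p2 _ hy _ hwT yA hwA) x1 y2)
    · refine Or.inr ?_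
      have := mul_mem2 (p2 _ hx _ hwT xA hwA) (h3 _ yA) x2 (h4 _ y1)
      rwa [show x * w * (w * y * w) = x * (w * w) * y * w by group, hw, mul_one] at this
    · refine Or.inl ?_
      have := mul_mem2 (p2 _ hx _ hwT xA hwA) (h3 _ (p2 _ hy _ hwT yA hwA)) x2 (h4 _ y2)
      rwa [show x * w * (w * (y * w) * w) = x * (w * w) * y * (w * w) by group, hw, mul_one,
        mul_one] at this) hK aT
  rcases this with e | e
  · exact a_not_mem2 ho e
  · exact hwA ((mul_mem_cancel_left (mem_zpowers a)).1 (le_A a e))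

end Main

theorem exists_DH [Finite G] [IsSimpleGroup G] (hG : ¬ IsMulCommutative G) (h : EPO.EP G)
    (T : Sylow 2 G) {v : G} (hv : v ∈ (T : Subgroup G)) (hv2 : orderOf v = 2)
    (hc : Nat.card ↥(centralizer ({v} : Set G) ⊓ (T : Subgroup G)) = 4)
    (h8 : 8 ≤ Nat.card (T : Subgroup G)) : ∃ a z j, DH (T : Subgroup G) a z j := by
  have hperf : commutator G = ⊤ :=
    (IsSimpleGroup.eq_bot_or_eq_top_of_normal _ inferInstance).resolve_left fun e =>
      hG ⟨⟨fun x y => commutatorElement_eq_one_iff_mul_comm.1 (by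
        have := commutator_mem_commutator (mem_top x) (mem_top y)
        rw [← commutator_def, e] at this
        exact this)⟩⟩
  obtain ⟨n, hn⟩ := T.isPGroup'.exists_card_eq
  obtain ⟨j, rfl⟩ : ∃ j, n = j + 3 := by
    refine Nat.exists_eq_add_of_le' ?_
    rw [hn, show 8 = 2 ^ 3 by norm_num] at h8
    exact (Nat.pow_le_pow_iff_right (by norm_num)).1 h8
  have hcc : KC.cc (⟨v, hv⟩ : (T : Subgroup G)) = 4 := by
    rw [← hc, KC.cc, ← card_map_of_injective (T : Subgroup G).subtype_injective]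
    congr 2
    ext x
    simp only [mem_map, mem_inf, mem_centralizer_singleton_iff]
    exact ⟨fun ⟨y, h1, h2⟩ => h2 ▸ ⟨congrArg Subtype.val h1, y.2⟩,
      fun ⟨h1, h2⟩ => ⟨⟨x, h2⟩, Subtype.ext h1, rfl⟩⟩
  obtain ⟨⟨a, aT⟩, ho⟩ := KCP.cyc_index_two j (T : Subgroup G) hn _ hcc.le
  rw [← orderOf_coe] at ho
  simp only at ho
  obtain ⟨z, hz⟩ : ∃ z, z = a ^ 2 ^ (j + 1) := ⟨_, rfl⟩
  have hAT : zpowers a ≤ T := zpowers_le.2 aT
  have hzA : z ∈ zpowers a := hz ▸ pow_mem (mem_zpowers a) _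
  have hi2 : ((zpowers a).subgroupOf T).index = 2 := by
    have := ((zpowers a).subgroupOf T).card_mul_index
    rw [Nat.card_congr (subgroupOfEquivOfLe hAT).toEquiv, Nat.card_zpowers, ho, hn, pow_succ _ (j + 2)] at this
    exact Nat.eq_of_mul_eq_mul_left (by positivity) this
  have p2 : ∀ x ∈ (T : Subgroup G), ∀ y ∈ (T : Subgroup G), x ∉ zpowers a → y ∉ zpowers a →
      x * y ∈ zpowers a := fun x hx y hy hx' hy' =>
    (mul_mem_iff_of_index_two hi2 (a := ⟨x, hx⟩) (b := ⟨y, hy⟩)).2 (iff_of_false hx' hy')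
  have hzc : ∀ t ∈ (T : Subgroup G), t * z = z * t := fun t ht => by
    rcases invA ho hz (conj_mem T aT p2 ht hzA) (by
      rw [show t * z * t⁻¹ * (t * z * t⁻¹) = t * (z * z) * t⁻¹ by group, z_sq ho hz]; simp) with e | e
    · exact absurd (by simpa using e) (z_ne ho hz)
    · exact mul_inv_eq_iff_eq_mul.1 e
  have cz : ∀ g, g * z = z * g ↔ g ∈ (T : Subgroup G) := fun g => by
    refine ⟨fun hg => ?_, hzc g⟩
    have := T.is_maximal' (Q := centralizer {z}) (EPO.isPGroup_of_pow fun x hx =>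
      h.comm Nat.prime_two (mem_centralizer_singleton_iff.1 hx).symm (z_ne ho hz) (k := 1)
        (by rw [pow_one, pow_two, z_sq ho hz])) fun t ht => mem_centralizer_singleton_iff.2 (hzc t ht)
    rw [← this]
    exact mem_centralizer_singleton_iff.2 hg
  have ti : ∀ x ∈ zpowers a, x ≠ 1 → ∀ g, g * x * g⁻¹ ∈ zpowers a → g ∈ (T : Subgroup G) := by
    intro x hx hx1 g hg
    obtain ⟨i, hi⟩ := exists_pow_eq_z ho hz hx hx1
    have h1 : g * z * g⁻¹ ∈ zpowers a := by rw [← hi, ← conj_pow]; exact pow_mem hg _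
    rcases invA ho hz h1 (by
      rw [show g * z * g⁻¹ * (g * z * g⁻¹) = g * (z * z) * g⁻¹ by group, z_sq ho hz]; simp) with e | e
    · exact absurd (by simpa using e) (z_ne ho hz)
    · exact (cz g).1 (mul_inv_eq_iff_eq_mul.1 e)
  have hvv : v * v = 1 := by rw [← pow_two, ← hv2, pow_orderOf_eq_one]
  have hv1 : v ≠ 1 := fun e => by rw [e, orderOf_one] at hv2; omega
  have hvi : v⁻¹ = v := inv_eq_of_mul_eq_one_right hvv
  have hvA : v ∉ zpowers a := fun e => by
    rw [(invA ho hz e hvv).resolve_left hv1, inf_eq_right.2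
      (fun t ht => mem_centralizer_singleton_iff.2 (hzc t ht))] at hc
    omega
  have hCA : ∀ x ∈ zpowers a, x * v = v * x → x = 1 ∨ x = z := fun x hx e => by
    by_contra hne
    obtain ⟨x1, xz⟩ := not_or.1 hne
    have := KCP.five_le (S := (T : Subgroup G)) (x := ⟨v, hv⟩) (y := ⟨x, hAT hx⟩) (z := ⟨z, hAT hzA⟩)
      (u := ⟨v, hv⟩) (Subtype.ext e) (Subtype.ext (hzc v hv).symm) (Commute.refl _)
      (fun e => z_ne ho hz (congrArg Subtype.val e)) (fun e => hv1 (congrArg Subtype.val e))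
      (fun e => hvA ((show z = v from congrArg Subtype.val e) ▸ hzA))
      (fun e => hvA ((mul_mem_cancel_left hzA).1 
        ((show z * v = 1 from congrArg Subtype.val e) ▸ one_mem _)))
      (fun e => x1 (congrArg Subtype.val e)) (fun e => xz (congrArg Subtype.val e))
      (fun e => hvA ((show x = v from congrArg Subtype.val e) ▸ hx))
      (fun e => hvA ((mul_mem_cancel_left hzA).1 
        ((show x = z * v from congrArg Subtype.val e) ▸ hx)))
    omega
  have hAc : ∀ x ∈ zpowers a, ∀ y ∈ zpowers a, x * y = y * x := by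
    rintro _ ⟨m, rfl⟩ _ ⟨n, rfl⟩
    exact zpow_mul_comm a m n
  have hb : v * a * v ∈ zpowers a := by
    have := conj_mem T aT p2 hv (mem_zpowers a)
    rwa [hvi] at this
  have hvz : ∀ n : ℤ, v * a ^ n * v = (v * a * v) ^ n := fun n => by
    have := conj_zpow (a := v) (b := a) (i := n)
    rw [hvi] at this
    exact this.symm
  have hin : ∀ s ∈ zpowers a, s * s = 1 → s ∈ zpowers (a ^ 2) := fun s hs h2 => by
    rcases invA ho hz hs h2 with rfl | rfl
    exacts [one_mem _, z_mem2 hz]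
  have hsq : ∀ s u : G, s * s = 1 → u * s * u⁻¹ * (u * s * u⁻¹) = 1 := fun s u e => by
    rw [show u * s * u⁻¹ * (u * s * u⁻¹) = u * (s * s) * u⁻¹ by group, e]; simp
  have hdih : a * (v * a * v) = 1 := by
    refine (hCA _ (mul_mem (mem_zpowers a) hb) ?_).resolve_right fun e => ?_
    · calc a * (v * a * v) * v = a * v * a * (v * v) := by group
        _ = v * (v * a * v * a) := by
          rw [hvv, mul_one, ← mul_assoc, ← mul_assoc, ← mul_assoc, hvv, one_mul]
        _ = _ := by rw [hAc _ hb _ (mem_zpowers a)]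
    refine focal_KK T hperf ho aT p2 ti hv hvA hvv fun s _ hs u hu => ?_
    have h2 := hsq s u hs
    generalize u * s * u⁻¹ = t at hu h2
    by_cases htA : t ∈ zpowers a
    · exact Or.inl (hin t htA h2)
    right
    obtain ⟨n, hn⟩ := p2 t hu v hv htA hvA
    simp only at hn
    have e1 : z ^ n = 1 := by
      rw [← e, Commute.mul_zpow (hAc _ (mem_zpowers a) _ hb), ← hvz, hn,
        show t * v * (v * (t * v) * v) = t * (v * v) * t * (v * v) by group, hvv, mul_one, mul_one, h2]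
    rw [← hn]
    rcases Int.even_or_odd' n with ⟨d, rfl | rfl⟩
    · exact ⟨d, by simp only; rw [zpow_mul, zpow_two, pow_two]⟩
    · rw [zpow_add, zpow_mul, zpow_two, z_sq ho hz, one_zpow, one_mul, zpow_one] at e1
      exact absurd e1 (z_ne ho hz)
  have hvy : ∀ y ∈ zpowers a, v * y * v = y⁻¹ := by
    rintro _ ⟨n, rfl⟩
    simp only
    rw [hvz, eq_inv_of_mul_eq_one_right hdih, inv_zpow]
  have out : ∀ t ∈ (T : Subgroup G), t ∉ zpowers a →
      t * t = 1 ∧ ∀ y ∈ zpowers a, t * y * t = y⁻¹ := fun t ht htA => by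
    have h1 := p2 t ht v hv htA hvA
    have e : ∀ y ∈ zpowers a, t * y * t = y⁻¹ := fun y hy => by
      calc t * y * t = t * (v * v) * y * (t * (v * v)) := by rw [hvv, mul_one]
        _ = t * v * (v * (y * (t * v)) * v) := by group
        _ = _ := by rw [hvy _ (mul_mem hy h1), mul_inv_rev, mul_inv_cancel_left]
    exact ⟨by simpa using e 1 (one_mem _), e⟩
  have hcj : ∀ t ∈ (T : Subgroup G), t ∉ zpowers a → ∀ s, s * t ∈ zpowers (a ^ 2) → IsConj t s := by
    rintro t ht htA s ⟨n, hn⟩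
    simp only at hn
    obtain ⟨t2, t3⟩ := out t ht htA
    refine isConj_iff.2 ⟨a ^ n, ?_⟩
    rw [← t3 _ ⟨n, rfl⟩]
    simp only
    rw [show a ^ n * t * (t * a ^ n * t) = a ^ n * (t * t) * a ^ n * t by group, t2, mul_one,
      ← Commute.mul_zpow (Commute.refl a), ← pow_two, hn, mul_assoc, t2, mul_one]
  obtain ⟨w, hw, hwA, hwz⟩ : ∃ w ∈ (T : Subgroup G), w ∉ zpowers a ∧ IsConj z w := by
    by_contra hcon
    push Not at hcon
    refine hvA (focal T hperf p2 ti p2 (fun s hs h2 u hu => ?_) hv)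
    by_contra hne
    rcases invA ho hz hs h2 with rfl | rfl
    · exact hne (by simp)
    · exact hcon _ hu hne (isConj_iff.2 ⟨u, rfl⟩)
  have hall : ∀ t ∈ (T : Subgroup G), t ∉ zpowers a → IsConj z t := fun t ht htA => by
    by_contra hne
    refine focal_KK T hperf ho aT p2 ti hw hwA (out w hw hwA).1 fun s hs h2 u hu => ?_
    by_cases hA : u * s * u⁻¹ ∈ zpowers a
    · exact Or.inl (hin _ hA (hsq s u h2))
    right
    have h3 : IsConj z (u * s * u⁻¹) := by
      refine IsConj.trans ?_ (isConj_iff.2 ⟨u, rfl⟩)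
      rcases hs with hs | hs
      · rcases invA ho hz (le_A a hs) h2 with rfl | rfl
        · exact absurd (by simp) hA
        · exact IsConj.refl _
      · exact hwz.trans (hcj w hw hwA s hs)
    by_contra h4
    have h5 : t * w ∉ zpowers (a ^ 2) := fun e => hne (hwz.trans (hcj w hw hwA t e))
    have h6 := mul_mem2 (inv_mem (p2 _ ht _ hw htA hwA)) (inv_mem (inv_mem (p2 _ hu _ hw hA hwA)))
      (fun e => h5 (inv_mem_iff.1 e)) (by rwa [inv_inv])
    rw [← mul_inv_rev, inv_mem_iff, hAc _ (inv_mem (p2 _ hu _ hw hA hwA)) _ (p2 _ ht _ hw htA hwA),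
      mul_inv_rev, ← mul_assoc, mul_inv_cancel_right,
      inv_eq_of_mul_eq_one_right (hsq s u h2)] at h6
    exact hne (h3.trans (hcj _ hu hA t h6))
  refine ⟨a, z, j, ho, hz, aT, hn, ?_, out, cz, ti, fun s hs hs1 => ?_⟩
  · exact Nat.not_even_iff_odd.1 fun e => T.not_dvd_index (even_iff_two_dvd.1 e)
  · obtain ⟨Q, hQ⟩ := (EPO.isPGroup_of_pow (U := zpowers s) (p := 2) (by
      rintro _ ⟨i, rfl⟩
      exact ⟨1, by
        change (s ^ i) ^ 2 ^ 1 = 1
        rw [pow_one, ← zpow_natCast, ← zpow_mul, mul_comm, zpow_mul, zpow_natCast, pow_two, hs,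
          one_zpow]⟩)).exists_le_sylow
    obtain ⟨g, rfl⟩ := MulAction.exists_smul_eq G T Q
    have h1 := R3.mem_smul_sylow.1 (hQ (mem_zpowers s))
    have h2 : IsConj (g⁻¹ * s * g) s := isConj_iff.2 ⟨g, by group⟩
    refine IsConj.trans ?_ h2
    by_cases hA : g⁻¹ * s * g ∈ zpowers a
    · rcases invA ho hz hA (by simpa using hsq s g⁻¹ hs) with e | e
      · rw [e] at h2
        exact absurd (isConj_one_right.1 h2) hs1
      · rw [e]
    · exact hall _ h1 hA

end Cfsg.Agent.EPD
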