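import Cfsg.Agent.Lib.EPD.A
import Cfsg.Agent.Lib.EPO.D

/-!
# The order formula for dihedral self-centralising Sylow 2-subgroups
-/

set_option autoImplicit false
set_option linter.unusedSectionVars false

open Cfsg
open scoped ComplexConjugate Classical

namespace Cfsg.Agent.EPD

open Cfsg.Agent.Char Finset EPO Nine
open Subgroup (zpowers mem_zpowers)

universe u

variable {G : Type u} [Group G] [Fintype G]

/-- number of ways to write `x` as a product of two conjugates of `z` -/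
noncomputable def cnt (z x : G) : ℕ := ((cl z).filter fun s => s⁻¹ * x ∈ cl z).card

/-- sum over pairs of conjugates of `z` -/
noncomputable def Ph (z : G) (f : G → ℂ) : ℂ := ∑ s ∈ cl z, ∑ t ∈ cl z, f (s * t)

theorem Ph_add (z : G) (f g : G → ℂ) : Ph z (f + g) = Ph z f + Ph z g := by
  simp [Ph, sum_add_distrib]

theorem Ph_neg (z : G) (f : G → ℂ) : Ph z (-f) = -Ph z f := by simp [Ph]

theorem Ph_one (z : G) : Ph z 1 = ((cl z).card : ℂ) ^ 2 := by simp [Ph, pow_two]

theorem Ph_eq (z : G) (f : G → ℂ) : Ph z f = ∑ x, (cnt z x : ℂ) * f x := by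
  have e : ∀ s, ∑ t ∈ cl z, f (s * t) = ∑ x, if s⁻¹ * x ∈ cl z then f x else 0 := fun s => by
    rw [← sum_filter]
    exact sum_bij' (fun t _ => s * t) (fun x _ => s⁻¹ * x) (fun t ht => by simpa using ht)
      (fun x hx => (mem_filter.1 hx).2) (fun t _ => by simp) (fun x _ => by simp) fun _ _ => rfl
  rw [Ph, sum_congr rfl fun s _ => e s, sum_comm]
  refine sum_congr rfl fun x _ => ?_
  rw [← sum_filter, sum_const, nsmul_eq_mul, cnt]

theorem conj_mem_cl {z s : G} (g : G) : g * s * g⁻¹ ∈ cl z ↔ s ∈ cl z := by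
  rw [mem_cl, mem_cl]
  exact ⟨fun h => h.trans (isConj_iff.2 ⟨g, rfl⟩ : IsConj s _).symm,
    fun h => h.trans (isConj_iff.2 ⟨g, rfl⟩)⟩

theorem cnt_conj (z x g : G) : cnt z (g * x * g⁻¹) = cnt z x := by
  refine (card_bij' (fun s _ => g * s * g⁻¹) (fun s _ => g⁻¹ * s * g⁻¹⁻¹) (fun s hs => ?_)
    (fun s hs => ?_) (fun s _ => by simp [mul_assoc]) fun s _ => by simp [mul_assoc]).symm
  · obtain ⟨h1, h2⟩ := mem_filter.1 hs
    refine mem_filter.2 ⟨(conj_mem_cl g).2 h1, ?_⟩
    rw [show (g * s * g⁻¹)⁻¹ * (g * x * g⁻¹) = g * (s⁻¹ * x) * g⁻¹ by group]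
    exact (conj_mem_cl g).2 h2
  · obtain ⟨h1, h2⟩ := mem_filter.1 hs
    refine mem_filter.2 ⟨(conj_mem_cl g⁻¹).2 h1, ?_⟩
    rw [show (g⁻¹ * s * g⁻¹⁻¹)⁻¹ * x = g⁻¹ * (s⁻¹ * (g * x * g⁻¹)) * g⁻¹⁻¹ by group]
    exact (conj_mem_cl g⁻¹).2 h2

/-- irreducible up to sign -/
def SI (X : G → ℂ) : Prop := IsIrrCharacter G X ∨ IsIrrCharacter G (-X)

theorem SI.data {X : G → ℂ} (h : SI X) {z : G} (hz : z * z = 1) : ∃ D x : ℤ, D ≠ 0 ∧ X 1 = D ∧
    X z = x ∧ Ph z X = ((cl z).card : ℂ) ^ 2 * x ^ 2 / D := by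
  have key : ∀ χ : G → ℂ, IsIrrCharacter G χ → ∃ D x : ℤ, D ≠ 0 ∧ χ 1 = D ∧
      χ z = x ∧ Ph z χ = ((cl z).card : ℂ) ^ 2 * x ^ 2 / D := fun χ hχ => by
    obtain ⟨c, hc, -⟩ := exists_int_two ⟨χ, hχ⟩ (t := z) (by rw [pow_two, hz])
    refine ⟨dg ⟨χ, hχ⟩, c, by exact_mod_cast (dg_pos _).ne', apply_one ⟨χ, hχ⟩, hc, ?_⟩
    have := sum_cl_cl_irr ⟨χ, hχ⟩ z z
    rw [hc] at this
    rw [Ph, this]
    push_cast
    ring
  rcases h with h | h
  · exact key X h
  · obtain ⟨D, x, h0, h1, h2, h3⟩ := key _ h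
    refine ⟨-D, -x, neg_ne_zero.2 h0, ?_, ?_, ?_⟩
    · push_cast; rw [← h1]; simp
    · push_cast; rw [← h2]; simp
    · rw [Ph_neg] at h3
      rw [neg_eq_iff_eq_neg.1 h3]
      push_cast
      rw [div_neg, neg_sq]

theorem SI.of_smul {χ : G → ℂ} (h : IsIrrCharacter G χ) {a : ℤ} (ha : a = 1 ∨ a = -1) :
    SI ((a : ℂ) • χ) := by
  rcases ha with rfl | rfl
  · left; simpa using h
  · right; simpa using h

theorem arith {u m D : ℤ} {k : ℕ} (hu : Odd u) (hm : m = 2 ^ k)
    (h : u * (D - 1) ^ 2 = 2 * m ^ 2 * D * (D + 1)) :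
    u = (2 * m + 1) * (m + 1) ∨ u = (2 * m - 1) * (m - 1) := by
  obtain ⟨E, rfl⟩ : Odd D := by
    by_contra hD
    have h1 : Odd (u * (D - 1) ^ 2) := hu.mul ((Int.not_odd_iff_even.1 hD).sub_odd odd_one).pow
    rw [h, mul_assoc, mul_assoc] at h1
    exact (Int.not_even_iff_odd.2 h1) (even_two_mul _)
  have h1 : u * E ^ 2 = m ^ 2 * ((2 * E + 1) * (E + 1)) := by linarith
  have h2 : E ^ 2 ∣ m ^ 2 := by
    refine IsCoprime.dvd_of_dvd_mul_right (z := (2 * E + 1) * (E + 1)) ?_ (h1 ▸ Dvd.intro_left u rfl)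
    exact IsCoprime.pow_left ⟨-(2 * E + 3), 1, by ring⟩
  have h3 : m ^ 2 ∣ E ^ 2 := by
    refine IsCoprime.dvd_of_dvd_mul_left (y := u) ?_ (h1 ▸ Dvd.intro _ rfl)
    obtain ⟨c, rfl⟩ := hu
    rw [hm]
    exact IsCoprime.pow_left (IsCoprime.pow_left ⟨-c, 1, by ring⟩)
  have h4 : E ^ 2 = m ^ 2 := Int.dvd_antisymm (sq_nonneg _) (sq_nonneg _) h2 h3
  have h5 : m ^ 2 ≠ 0 := by rw [hm]; positivity
  rw [h4, mul_comm] at h1
  have h6 := mul_left_cancel₀ h5 h1
  rcases sq_eq_sq_iff_eq_or_eq_neg.1 h4 with rfl | rfl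
  · exact Or.inl h6
  · right; rw [h6]; ring

namespace DH
variable {T : Subgroup G} {a z : G} {j : ℕ} (h : DH T a z j)
include h

theorem AT : zpowers a ≤ T := Subgroup.zpowers_le.2 h.aT

theorem zA : z ∈ zpowers a := h.hz ▸ pow_mem (mem_zpowers a) _

theorem zz : z * z = 1 := z_sq h.ord h.hz

theorem z1 : z ≠ 1 := z_ne h.ord h.hz

theorem cardA : Nat.card (zpowers a) = 2 ^ (j + 2) := by rw [Nat.card_zpowers, h.ord]

theorem mem_cl' {s : G} : s ∈ cl z ↔ s * s = 1 ∧ s ≠ 1 := by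
  rw [mem_cl]
  refine ⟨fun e => ?_, fun e => h.conj s e.1 e.2⟩
  obtain ⟨g, rfl⟩ := isConj_iff.1 e
  exact ⟨by rw [show g * z * g⁻¹ * (g * z * g⁻¹) = g * (z * z) * g⁻¹ by group, h.zz]; simp,
    fun e => h.z1 (by simpa using e)⟩

theorem card_fA : (univ.filter fun g : G => g ∈ zpowers a).card = 2 ^ (j + 2) := by
  rw [← h.cardA, Nat.card_eq_fintype_card, Fintype.card_subtype]

theorem card_out : (univ.filter fun g : G => g ∈ T ∧ g ∉ zpowers a).card = 2 ^ (j + 2) := by
  have h1 := card_filter_add_card_filter_not (s := univ.filter fun g : G => g ∈ T)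
    (fun g => g ∈ zpowers a)
  have h2 : (univ.filter fun g : G => g ∈ T).card = 2 ^ (j + 3) := by
    rw [← h.card, Nat.card_eq_fintype_card, Fintype.card_subtype]
  rw [filter_filter, filter_filter, h2, filter_congr (q := fun g => g ∈ zpowers a)
    (fun g _ => and_iff_right_of_imp fun e => h.AT e), h.card_fA, pow_succ 2 (j + 2)] at h1
  omega

theorem card_cl' : (cl z).card = T.index := by
  rw [card_cl]
  congr 1
  ext g
  rw [mem_Cz, h.cz]

theorem card_G : Nat.card G = 2 ^ (j + 3) * T.index := by rw [← h.card, Subgroup.card_mul_index]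

theorem cnt_A {x : G} (hx : x ∈ zpowers a) (h1 : x ≠ 1) : cnt z x = 2 ^ (j + 2) := by
  rw [← h.card_out, cnt]
  congr 1
  ext s
  simp only [mem_filter, mem_univ, true_and, h.mem_cl']
  constructor
  · rintro ⟨⟨s2, s1⟩, t2, t1⟩
    have hi : s⁻¹ = s := inv_eq_of_mul_eq_one_right s2
    rw [hi] at t1 t2
    have e : s * x * s⁻¹ = x⁻¹ := by rw [hi]; exact eq_inv_of_mul_eq_one_left (by rw [← t2]; group)
    refine ⟨h.ti x hx h1 s (e ▸ inv_mem hx), fun hs => ?_⟩
    rcases invA h.ord h.hz hs s2 with e1 | e1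
    · exact s1 e1
    rcases invA h.ord h.hz (mul_mem hs hx) t2 with e2 | e2
    · exact t1 e2
    · rw [e1] at e2
      exact h1 (by simpa using e2)
  · rintro ⟨hs, hs'⟩
    obtain ⟨s2, s3⟩ := h.out s hs hs'
    have hi : s⁻¹ = s := inv_eq_of_mul_eq_one_right s2
    rw [hi]
    exact ⟨⟨s2, fun e => hs' (e ▸ one_mem _)⟩, by rw [← mul_assoc, s3 x hx, inv_mul_cancel],
      fun e => hs' ((mul_mem_cancel_right hx).1 (e ▸ one_mem _))⟩

theorem ind_apply {β : zpowers a → ℂ} (hβ : β 1 = 0) (x : zpowers a) :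
    indFun (zpowers a) β x = β x + β x⁻¹ := by
  by_cases hx : x = 1
  · subst hx
    rw [Subgroup.coe_one, indFun_apply_one, inv_one, hβ]; simp
  have hx' : (x : G) ≠ 1 := fun e => hx (Subtype.ext e)
  have e : ∀ g : G, extendByZero (zpowers a) β (g⁻¹ * x * g) =
      (if g ∈ zpowers a then β x else 0) + if g ∈ T ∧ g ∉ zpowers a then β x⁻¹ else 0 := by
    intro g
    by_cases h1 : g ∈ zpowers a
    · rw [if_pos h1, if_neg (fun e => e.2 h1), add_zero, ← extendByZero_coe _ β]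
      congr 1
      have : (x : G) * g = g * x := by
        obtain ⟨_, m, rfl⟩ := x
        obtain ⟨n, rfl⟩ := h1
        exact zpow_mul_comm a m n
      rw [mul_assoc, this, inv_mul_cancel_left]
    rw [if_neg h1, zero_add]
    by_cases h2 : g ∈ T
    · rw [if_pos ⟨h2, h1⟩, ← extendByZero_coe _ β]
      obtain ⟨s2, s3⟩ := h.out g h2 h1
      rw [inv_eq_of_mul_eq_one_right s2, s3 x x.2, Subgroup.coe_inv]
    · rw [if_neg (fun e => h2 e.1)]
      refine extendByZero_of_notMem _ _ fun e => h2 ?_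
      exact inv_mem_iff.1 (h.ti x x.2 hx' g⁻¹ (by simpa using e))
  rw [indFun, sum_congr rfl fun g _ => e g, sum_add_distrib, ← sum_filter, ← sum_filter, sum_const,
    sum_const, h.card_fA, h.card_out, h.cardA, nsmul_eq_mul, nsmul_eq_mul, ← mul_add,
    inv_mul_cancel_left₀ (Nat.cast_ne_zero.2 (by positivity))]

theorem al_apply (l m : zpowers a →* ℂˣ) (x : zpowers a) :
    al l m x = (lc l - lc m + (lc l⁻¹ - lc m⁻¹)) x := by
  rw [al, h.ind_apply (by simp [lc])]
  simp [lc]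

theorem inner_al (l m l' m' : zpowers a →* ℂˣ) : classInner (al l m) (al l' m') =
    ((if l = l' then 1 else 0) - (if m = l' then 1 else 0)) -
      ((if l = m' then 1 else 0) - (if m = m' then 1 else 0)) +
    (((if l = l'⁻¹ then 1 else 0) - (if m = l'⁻¹ then 1 else 0)) -
      ((if l = m'⁻¹ then 1 else 0) - (if m = m'⁻¹ then 1 else 0))) := by
  rw [al, inner_indFun_left _ _ (isClass_of_isGen (al_gen _ _)), funext (h.al_apply l' m')]
  unfold lc
  simp only [Char.inner_sub_left, Char.inner_sub_right, Char.inner_add_right, inner_unitsHom]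

theorem Ph_al {l : zpowers a →* ℂˣ} (hl : l ≠ 1) :
    Ph z (al 1 l) = Nat.card G * 2 ^ (j + 2) := by
  have h1 := inner_indFun_left (zpowers a) (lc 1 - lc l) (f := fun x => (cnt z x : ℂ))
    fun g x => by simp only [cnt_conj]
  have h2 : classInner (lc 1 - lc l) (fun x : zpowers a => (cnt z x : ℂ)) =
      classInner (lc 1 - lc l) ((2 ^ (j + 2) : ℂ) • lc (1 : zpowers a →* ℂˣ)) := by
    rw [classInner, classInner]
    congr 1
    refine sum_congr rfl fun x _ => ?_
    by_cases hx : x = 1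
    · simp [hx, lc]
    · rw [h.cnt_A x.2 fun e => hx (Subtype.ext e)]; simp [lc]
  rw [h2, Char.inner_smul_right, Char.inner_sub_left] at h1
  unfold lc at h1
  rw [inner_unitsHom, inner_unitsHom, if_pos rfl, if_neg hl, classInner,
    inv_mul_eq_iff_eq_mul₀ natCard_ne_zero] at h1
  rw [Ph_eq]
  simp only [map_natCast, map_pow, map_ofNat, sub_zero, mul_one] at h1
  rw [← h1]
  exact sum_congr rfl fun x _ => mul_comm _ _

theorem order_eq {l : zpowers a →* ℂˣ} (hl : l ≠ 1) {X Y : G → ℂ} (hX : SI X) (hY : SI Y)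
    (e : al 1 l = 1 + X + Y) : ∃ D x y : ℤ, D ≠ 0 ∧ D + 1 ≠ 0 ∧ X 1 = D ∧ X z = x ∧ Y z = y ∧
      (2 * (2 ^ (j + 2)) ^ 2 * D * (D + 1) : ℤ) =
        T.index * (D * (D + 1) + x ^ 2 * (D + 1) - y ^ 2 * D) := by
  obtain ⟨D, x, a1, a2, a3, a4⟩ := hX.data h.zz
  obtain ⟨D', y, b1, b2, b3, b4⟩ := hY.data h.zz
  have h1 := al_one (1 : zpowers a →* ℂˣ) l
  rw [e, Pi.add_apply, Pi.add_apply, a2, b2, Pi.one_apply] at h1
  have h2 : D' = -(D + 1) := by
    have : 1 + D + D' = 0 := by exact_mod_cast h1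
    omega
  subst h2
  refine ⟨D, x, y, a1, neg_ne_zero.1 b1, a2, a3, b3, ?_⟩
  have h3 := h.Ph_al hl
  rw [e, Ph_add, Ph_add, Ph_one, a4, b4, h.card_cl', h.card_G] at h3
  have c1 : (D : ℂ) ≠ 0 := by exact_mod_cast a1
  have c2 : (D : ℂ) + 1 ≠ 0 := by exact_mod_cast neg_ne_zero.1 b1
  have c3 : (T.index : ℂ) ≠ 0 := by exact_mod_cast Subgroup.FiniteIndex.index_ne_zero
  push_cast at h3
  rw [div_neg] at h3
  field_simp at h3
  have : (2 * (2 ^ (j + 2)) ^ 2 * D * (D + 1) : ℂ) =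
      T.index * (D * (D + 1) + x ^ 2 * (D + 1) - y ^ 2 * D) := by
    linear_combination -h3
  exact_mod_cast this

theorem index_eq : (T.index : ℤ) = (2 * 2 ^ (j + 2) + 1) * (2 ^ (j + 2) + 1) ∨
    (T.index : ℤ) = (2 * 2 ^ (j + 2) - 1) * (2 ^ (j + 2) - 1) := by
  have fin : ∀ D : ℤ, (2 * (2 ^ (j + 2)) ^ 2 * D * (D + 1) : ℤ) =
      T.index * (D * (D + 1) + 1 ^ 2 * (D + 1) - 2 ^ 2 * D) → _ := fun D e =>
    arith (u := T.index) (k := j + 2) (D := D) (by exact_mod_cast h.odd) rfl (by rw [e]; ring)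
  let z' : zpowers a := ⟨z, h.zA⟩
  let a' : zpowers a := ⟨a, mem_zpowers a⟩
  have hz' : z' = a' ^ 2 ^ (j + 1) := Subtype.ext h.hz
  obtain ⟨l, hl⟩ := exists_unitsHom_ne_one (g := z') fun e => h.z1 (congrArg Subtype.val e)
  have hlz : l z' = -1 := by
    have : l z' * l z' = 1 := by rw [← map_mul, show z' * z' = 1 from Subtype.ext h.zz, map_one]
    have h2 : (l z' : ℂ) * l z' = 1 := by rw [← Units.val_mul, this, Units.val_one]
    rcases mul_self_eq_one_iff.1 h2 with e | e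
    · exact absurd (Units.ext e) hl
    · exact Units.ext e
  have hl1 : l ≠ 1 := fun e => hl (by rw [e]; rfl)
  have hp : ∀ i, i ≤ j + 1 → l ^ 2 ^ i ≠ 1 := fun i hi e => hl (by
    obtain ⟨c, hc⟩ := Nat.exists_eq_add_of_le hi
    rw [hz', hc, pow_add, map_pow, pow_mul, ← MonoidHom.pow_apply, e]; simp)
  have hl2 : l ≠ l⁻¹ := fun e => hp 1 (by omega) (hom_eq_inv_self_iff.1 e)
  have one_inv : (1 : zpowers a →* ℂˣ)⁻¹ = 1 := rfl
  have hn : ∀ k : zpowers a →* ℂˣ, k ≠ 1 → k ≠ k⁻¹ → classInner (al 1 k - 1) (al 1 k - 1) = 2 := by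
    intro k h1 h2
    rw [Char.inner_sub_left, Char.inner_sub_right, Char.inner_sub_right, one_inner_beta h1,
      inner_gen_comm (al_gen _ _) isGen_one, one_inner_beta h1, inner_one_one, h.inner_al, one_inv]
    simp only [if_pos, if_neg h1, if_neg h1.symm, if_neg h2, if_neg (inv_ne_one' h1).symm]
    norm_num
  have hval : ∀ k : zpowers a →* ℂˣ, al 1 k z = 2 - 2 * k z' := fun k => by
    have := h.ind_apply (β := lc 1 - lc k) (by simp [lc]) z'
    rw [show z'⁻¹ = z' from inv_eq_of_mul_eq_one_right (Subtype.ext h.zz)] at this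
    change al 1 k z' = _
    rw [al, this]
    simp [lc]; ring
  have hgen : IsGeneralizedCharacter G (al 1 l - 1) := isGen_sub (al_gen _ _) isGen_one
  rcases Nat.eq_zero_or_pos j with rfl | hj
  · -- `m = 4`
    have := Fintype.ofFinite (IrrCharacter G)
    obtain ⟨χ, ψ, c, d, hχ, hψ, hne, hc, hd, e⟩ := exists_of_inner_self_two hgen (hn l hl1 hl2)
    have e' : al 1 l = 1 + (c : ℂ) • χ + (d : ℂ) • ψ := by rw [add_assoc, ← e]; abel
    have h0 : classInner ((c : ℂ) • χ + (d : ℂ) • ψ) 1 = 0 := by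
      rw [← e, Char.inner_sub_left, inner_gen_comm (al_gen _ _) isGen_one, one_inner_beta hl1,
        inner_one_one, sub_self]
    rw [Char.inner_add_left, Char.inner_smul_left, Char.inner_smul_left, inner_irr hχ isIrr_one,
      inner_irr hψ isIrr_one] at h0
    have hχ1 : χ ≠ 1 := fun e1 => by
      rw [if_pos e1, if_neg fun e2 => hne (e1.trans e2.symm)] at h0
      rcases hc with rfl | rfl <;> norm_num at h0
    have hψ1 : ψ ≠ 1 := fun e1 => by
      rw [if_pos e1, if_neg hχ1] at h0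
      rcases hd with rfl | rfl <;> norm_num at h0
    obtain ⟨D, x, y, -, -, -, a1, a2, a3⟩ := h.order_eq hl1 (SI.of_smul hχ hc) (SI.of_smul hψ hd) e'
    obtain ⟨D', y', x', -, -, -, b1, b2, b3⟩ := h.order_eq hl1 (SI.of_smul hψ hd) (SI.of_smul hχ hc)
      (by rw [e', add_right_comm])
    have hx : x' = x := by exact_mod_cast b2.symm.trans a1
    have hy : y' = y := by exact_mod_cast b1.symm.trans a2
    subst hx hy
    have s1 : x' + y' = 3 := by
      have := hval l
      rw [e', Pi.add_apply, Pi.add_apply, a1, a2, hlz, Pi.one_apply] at this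
      have h2 : (x' : ℂ) + y' = 3 := by push_cast at this; linear_combination this
      exact_mod_cast h2
    have s2 : 1 + x' ^ 2 + y' ^ 2 ≤ 8 := by
      choose v hv using fun θ : IrrCharacter G => exists_int_two θ (t := z) (by rw [pow_two, h.zz])
      have h2 := second_orthogonality z z
      rw [if_pos (IsConj.refl z), show Subgroup.centralizer {z} = T from
        Subgroup.ext fun g => by rw [← h.cz, Subgroup.mem_centralizer_singleton_iff], h.card] at h2
      simp only [fun θ => (hv θ).1, map_intCast] at h2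
      have h3 : ∑ θ, v θ * v θ = 8 := by exact_mod_cast h2
      have h4 := sum_le_sum_of_subset_of_nonneg (f := fun θ => v θ * v θ)
        (subset_univ {triv G, ⟨χ, hχ⟩, ⟨ψ, hψ⟩}) fun _ _ _ => mul_self_nonneg _
      rw [sum_insert (by
        simp only [mem_insert, mem_singleton, not_or]
        exact ⟨fun e => hχ1 (congrArg Subtype.val e).symm, fun e => hψ1 (congrArg Subtype.val e).symm⟩),
        sum_pair fun e => hne (congrArg Subtype.val e), h3] at h4
      have c1 : v (triv G) = 1 := by exact_mod_cast (hv (triv G)).1.symm.trans (triv_apply z)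
      have c2 : c * v ⟨χ, hχ⟩ = x' := by
        have := (hv ⟨χ, hχ⟩).1
        simp only at this
        rw [Pi.smul_apply, this, smul_eq_mul] at a1
        exact_mod_cast a1
      have c3 : d * v ⟨ψ, hψ⟩ = y' := by
        have := (hv ⟨ψ, hψ⟩).1
        simp only at this
        rw [Pi.smul_apply, this, smul_eq_mul] at a2
        exact_mod_cast a2
      rw [c1] at h4
      rw [← c2, ← c3]
      rcases hc with rfl | rfl <;> rcases hd with rfl | rfl <;> nlinarith
    have s3 : x' = 1 ∨ x' = 2 := by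
      have : 1 ≤ x' := by nlinarith
      have : x' ≤ 2 := by nlinarith
      omega
    rcases s3 with rfl | rfl
    · obtain rfl : y' = 2 := by omega
      exact fin D a3
    · obtain rfl : y' = 1 := by omega
      exact fin D' b3
  · -- `m ≥ 8`
    set n := l ^ 2 with hn'
    have hnz : n z' = 1 := by rw [hn', MonoidHom.pow_apply, hlz]; simp
    have n1 : n ≠ 1 := hp 1 (by omega)
    have n2 : n ≠ n⁻¹ := fun e => hp 2 (by omega) (by
      rw [show 2 ^ 2 = 2 * 2 by norm_num, pow_mul]; exact hom_eq_inv_self_iff.1 e)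
    have n3 : n ≠ l := fun e => hl (e ▸ hnz)
    have n4 : n ≠ l⁻¹ := fun e => hl (by
      have : l⁻¹ z' = 1 := e ▸ hnz
      rwa [MonoidHom.inv_apply, inv_eq_one] at this)
    have n5 : l ≠ n⁻¹ := fun e => n4 (hom_inv_eq_iff.1 e.symm)
    obtain ⟨α, β, hα, hβ, hne, e⟩ := AIC.exists_sub_of_norm_two (al_gen n l) (by
      rw [h.inner_al]
      simp only [if_pos, if_neg n3, if_neg n3.symm, if_neg n2, if_neg n4, if_neg n5, if_neg hl2]
      norm_num) (al_one _ _)
    have h1 : classInner (al 1 l - 1) (α - β) = 1 := by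
      rw [← e, Char.inner_sub_left, inner_al_right isClass_one, h.inner_al]
      have : ∀ k : zpowers a →* ℂˣ, k ≠ 1 → mu (1 : G → ℂ) k = 0 := fun k hk => by
        have := inner_unitsHom (1 : zpowers a →* ℂˣ) k
        rwa [if_neg hk.symm] at this
      rw [this n n1, this l hl1]
      simp only [if_pos, if_neg n3.symm, if_neg n1.symm, if_neg hl1.symm, if_neg n5, if_neg hl2,
        if_neg (inv_ne_one' n1).symm, if_neg (inv_ne_one' hl1).symm]
      norm_num
    obtain ⟨c, hc⟩ := exists_int_inner hgen (isGen_of_irr hα)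
    obtain ⟨d, hd⟩ := exists_int_inner hgen (isGen_of_irr hβ)
    have c1 := sq_le_of_inner hα hc (n := 2) (by rw [hn l hl1 hl2]; norm_num)
    have d1 := sq_le_of_inner hβ hd (n := 2) (by rw [hn l hl1 hl2]; norm_num)
    rw [Char.inner_sub_right, hc, hd] at h1
    have h2 : c - d = 1 := by exact_mod_cast h1
    have h3 := al_add 1 n l
    obtain ⟨X, Y, Y', hX, hY, hY', e1, e2⟩ : ∃ X Y Y' : G → ℂ, SI X ∧ SI Y ∧ SI Y' ∧
        al 1 l = 1 + X + Y ∧ al 1 n = 1 + X + Y' := by
      have h4 : c = 1 ∨ d = -1 := by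
        have : c ≤ 1 := by nlinarith
        have : -1 ≤ d := by nlinarith
        omega
      rcases h4 with rfl | rfl
      · refine ⟨al 1 l - 1 - ((1 : ℤ) : ℂ) • α, α, β, irr_or_neg_of_inner_self
          (isGen_sub hgen (isGen_intCast_smul (isGen_of_irr hα) _)) (by
            rw [inner_self_sub_smul hα hc, hn l hl1 hl2]; norm_num), Or.inl hα, Or.inl hβ, by simp; abel, ?_⟩
        rw [← h3, e]; simp; abel
      · refine ⟨al 1 l - 1 - ((-1 : ℤ) : ℂ) • β, -β, -α, irr_or_neg_of_inner_self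
          (isGen_sub hgen (isGen_intCast_smul (isGen_of_irr hβ) _)) (by
            rw [inner_self_sub_smul hβ hd, hn l hl1 hl2]; norm_num), Or.inr (by simpa using hβ),
          Or.inr (by simpa using hα), by simp; abel, ?_⟩
        rw [← h3, e]; simp; abel
    obtain ⟨D, x, y, a0, -, a1, a2, a3, a4⟩ := h.order_eq hl1 hX hY e1
    obtain ⟨D', x', y', -, -, b1, b2, b3, b4⟩ := h.order_eq n1 hX hY' e2
    obtain rfl : D = D' := by exact_mod_cast a1.symm.trans b1
    obtain rfl : x = x' := by exact_mod_cast a2.symm.trans b2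
    have s1 : x + y = 3 := by
      have := hval l
      rw [e1, Pi.add_apply, Pi.add_apply, a2, a3, hlz, Pi.one_apply] at this
      have h2 : (x : ℂ) + y = 3 := by push_cast at this; linear_combination this
      exact_mod_cast h2
    have s2 : x + y' = -1 := by
      have := hval n
      rw [e2, Pi.add_apply, Pi.add_apply, a2, b3, hnz, Pi.one_apply] at this
      have h2 : (x : ℂ) + y' = -1 := by push_cast at this; linear_combination this
      exact_mod_cast h2
    have s3 : y ^ 2 = y' ^ 2 := by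
      have c3 : (T.index : ℤ) ≠ 0 := by exact_mod_cast Subgroup.FiniteIndex.index_ne_zero
      have := mul_left_cancel₀ c3 (a4.symm.trans b4)
      exact mul_right_cancel₀ a0 (by linarith)
    obtain rfl : x = 1 := by
      rcases sq_eq_sq_iff_eq_or_eq_neg.1 s3 with e | e <;> omega
    obtain rfl : y = 2 := by omega
    exact fin D a4

end DH

end Cfsg.Agent.EPD
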